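import Groth.Agent.ResidueExt.Triangular
import Groth.Agent.Completion.NoetherianComplete
import Mathlib.RingTheory.AlgebraicIndependent.TranscendenceBasis
import Mathlib.RingTheory.AdicCompletion.LocalRing
import Mathlib.RingTheory.Flat.Stability
import Mathlib.RingTheory.Flat.Localization
import Mathlib.RingTheory.Filtration
import Mathlib.RingTheory.LocalRing.ResidueField.Basic
import Mathlib.RingTheory.Ideal.GoingUp
import Mathlib.RingTheory.Localization.AtPrime.Basic
import Mathlib.SetTheory.Cardinal.Order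
import Mathlib.RingTheory.IntegralClosure.Algebra.Basic
import Mathlib.FieldTheory.IntermediateField.Adjoin.Defs

/-! Flat local extensions with prescribed residue field. -/

namespace Groth.Agent.ResidueExt.Construction

universe u

open TensorProduct IsLocalRing

theorem eval_residue (R K : Type u) [CommRing R] [IsLocalRing R] [Field K]
    [Algebra (ResidueField R) K] (T : Set K) :
    MvPolynomial.eval₂Hom ((algebraMap (ResidueField R) K).comp (residue R)) (Subtype.val : T → K) =
      (MvPolynomial.aeval (Subtype.val : T → K) :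
        MvPolynomial T (ResidueField R) →ₐ[ResidueField R] K).toRingHom.comp
      (MvPolynomial.map (residue R)) := by
  apply MvPolynomial.ringHom_ext <;> intro i <;> simp

/-- the purely transcendental step -/
theorem exists_transcendental_part (R K : Type u) [CommRing R] [IsLocalRing R] [Field K]
    [Algebra (ResidueField R) K] :
    ∃ (A : Type u) (_ : CommRing A) (_ : IsLocalRing A) (_ : Algebra R A) (φ : A →+* K),
      Module.Flat R A ∧ (maximalIdeal R).map (algebraMap R A) = maximalIdeal A ∧
      RingHom.ker φ = maximalIdeal A ∧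
      (∀ r, φ (algebraMap R A r) = algebraMap (ResidueField R) K (residue R r)) ∧
      ∀ x : K, ∃ q : Polynomial A, q.Monic ∧ q.eval₂ φ x = 0 := by
  classical
  obtain ⟨T, hT⟩ := exists_isTranscendenceBasis (ResidueField R) K
  obtain ⟨ev₀, hev₀⟩ : ∃ f : MvPolynomial T R →+* K, f =
      MvPolynomial.eval₂Hom ((algebraMap (ResidueField R) K).comp (residue R)) Subtype.val :=
    ⟨_, rfl⟩
  have hker₀ : RingHom.ker ev₀ = (maximalIdeal R).map MvPolynomial.C := by
    rw [hev₀, eval_residue, RingHom.ker_comp_of_injective _ hT.1, MvPolynomial.ker_map,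
      IsLocalRing.ker_residue]
  have : (RingHom.ker ev₀).IsPrime := RingHom.ker_isPrime _
  let A := Localization.AtPrime (RingHom.ker ev₀)
  have hu : ∀ y : (RingHom.ker ev₀).primeCompl, IsUnit (ev₀ y) := fun y =>
    isUnit_iff_ne_zero.2 fun h => y.2 (RingHom.mem_ker.2 h)
  let φ : A →+* K := IsLocalization.lift (M := (RingHom.ker ev₀).primeCompl) hu
  have hφ : ∀ x, φ (algebraMap (MvPolynomial T R) A x) = ev₀ x := fun x =>
    IsLocalization.lift_eq hu x
  have hmax : (maximalIdeal R).map (algebraMap R A) = maximalIdeal A := by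
    rw [← Localization.AtPrime.map_eq_maximalIdeal,
      IsScalarTower.algebraMap_eq R (MvPolynomial T R) A, ← Ideal.map_map,
      MvPolynomial.algebraMap_eq, ← hker₀]
  have hkerA : RingHom.ker φ = maximalIdeal A := by
    refine le_antisymm (le_maximalIdeal (RingHom.ker_ne_top _)) ?_
    rw [← Localization.AtPrime.map_eq_maximalIdeal, Ideal.map_le_iff_le_comap]
    intro x hx
    exact RingHom.mem_ker.2 ((hφ x).trans (RingHom.mem_ker.1 hx))
  have hcompat : ∀ r, φ (algebraMap R A r) = algebraMap (ResidueField R) K (residue R r) := by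
    intro r
    rw [IsScalarTower.algebraMap_apply R (MvPolynomial T R) A, hφ, hev₀,
      MvPolynomial.algebraMap_eq, MvPolynomial.eval₂Hom_C]
    rfl
  refine ⟨A, inferInstance, inferInstance, inferInstance, φ,
    Module.Flat.trans R (MvPolynomial T R) A, hmax, hkerA, hcompat, fun x => ?_⟩
  letI : Algebra A K := φ.toAlgebra
  have hL : ∀ y ∈ IntermediateField.adjoin (ResidueField R) (Set.range (Subtype.val : T → K)),
      y ∈ Set.range (algebraMap A K) := by
    intro y hy
    induction hy using IntermediateField.adjoin_induction with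
    | mem y hy =>
      obtain ⟨t, rfl⟩ := hy
      exact ⟨algebraMap _ A (MvPolynomial.X t), (hφ _).trans
        (by rw [hev₀, MvPolynomial.eval₂Hom_X'])⟩
    | algebraMap c =>
      obtain ⟨r, rfl⟩ := residue_surjective c
      exact ⟨algebraMap R A r, hcompat r⟩
    | add y z _ _ hy hz =>
      obtain ⟨a, rfl⟩ := hy; obtain ⟨b, rfl⟩ := hz
      exact ⟨a + b, map_add _ _ _⟩
    | inv y _ hy =>
      obtain ⟨a, rfl⟩ := hy
      exact Triangular.inv_mem_of_isIntegral hkerA (Algebra.ofId A K).range ⟨a, rfl⟩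
        isIntegral_algebraMap
    | mul y z _ _ hy hz =>
      obtain ⟨a, rfl⟩ := hy; obtain ⟨b, rfl⟩ := hz
      exact ⟨a * b, map_mul _ _ _⟩
  have := hT.isAlgebraic_field
  obtain ⟨p, hp, hpx⟩ :=
    (Algebra.IsIntegral.isIntegral (R := IntermediateField.adjoin (ResidueField R)
      (Set.range (Subtype.val : T → K))) x)
  obtain ⟨q, hq, -, hqm⟩ := Polynomial.lifts_and_degree_eq_and_monic
    (p := p.map (algebraMap _ K))
    (show p.map (algebraMap _ K) ∈ Polynomial.lifts (algebraMap A K) from
      (Polynomial.lifts_iff_coeff_lifts _).2 fun n => by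
        rw [Polynomial.coeff_map]; exact hL _ (p.coeff n).2)
    (hp.map _)
  refine ⟨q, hqm, ?_⟩
  show q.eval₂ (algebraMap A K) x = 0
  rw [Polynomial.eval₂_eq_eval_map, hq, ← Polynomial.eval₂_eq_eval_map]
  exact hpx

theorem exists_flat_extension (R K : Type u) [CommRing R] [IsLocalRing R] [Field K]
    [Algebra (ResidueField R) K] :
    ∃ (S : Type u) (_ : CommRing S) (_ : IsLocalRing S) (_ : Algebra R S) (ψ : S →+* K),
      Module.Flat R S ∧ (maximalIdeal R).map (algebraMap R S) = maximalIdeal S ∧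
      Function.Surjective ψ ∧ RingHom.ker ψ = maximalIdeal S ∧
      ∀ r, ψ (algebraMap R S r) = algebraMap (ResidueField R) K (residue R r) := by
  classical
  obtain ⟨A, _, _, _, φ, hflat, hmax, hkerA, hcompat, hint⟩ := exists_transcendental_part R K
  letI : Algebra A K := φ.toAlgebra
  letI : LinearOrder K := linearOrderOfSTO WellOrderingRel
  have : WellFoundedLT K := ⟨(WellOrderingRel.isWellOrder : IsWellOrder K _).wf⟩
  choose g hgm hgz hgmin using
    fun s => Triangular.exists_minimal_monic (A := A) (id : K → K) hkerA hint s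
  let I := Triangular.rel g Set.univ
  let B := MvPolynomial K A ⧸ I
  have hflatAB : Module.Flat A B := Triangular.flat_quotient g hgm
  have hintB : Algebra.IsIntegral A B := Triangular.isIntegral_quotient g hgm
  have hker := Triangular.ker_aeval_eq g hgm (id : K → K) hkerA hgz hgmin
  let ev : MvPolynomial K A →ₐ[A] K := MvPolynomial.aeval id
  have hI : I ≤ RingHom.ker ev.toRingHom := by
    show Triangular.rel g Set.univ ≤ RingHom.ker ev
    rw [hker]; exact le_sup_left
  let ψ : B →+* K := Ideal.Quotient.lift I ev.toRingHom hI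
  have hsurj : Function.Surjective ψ := fun x =>
    ⟨Ideal.Quotient.mk I (MvPolynomial.X x),
      (Ideal.Quotient.lift_mk _ _ _).trans (MvPolynomial.aeval_X _ _)⟩
  have hkerψ : RingHom.ker ψ = (maximalIdeal R).map (algebraMap R B) := by
    rw [Ideal.ker_quotient_lift, show RingHom.ker ev.toRingHom = _ from hker, Ideal.map_sup,
      show (Triangular.rel g Set.univ).map (Ideal.Quotient.mk I) = ⊥ from Ideal.map_quotient_self I,
      bot_sup_eq, ← hmax,
      Ideal.map_map, Ideal.map_map]
    rfl
  have hmaxA : (maximalIdeal A).map (algebraMap A B) = RingHom.ker ψ := by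
    rw [hkerψ, ← hmax, Ideal.map_map, ← IsScalarTower.algebraMap_eq]
  have hψmax : (RingHom.ker ψ).IsMaximal := RingHom.ker_isMaximal_of_surjective ψ hsurj
  have hloc : IsLocalRing B := IsLocalRing.of_unique_max_ideal ⟨_, hψmax, fun M hM => by
    refine (hψmax.eq_of_le hM.ne_top ?_).symm
    rw [← hmaxA, Ideal.map_le_iff_le_comap]
    have := Ideal.isMaximal_comap_of_isIntegral_of_isMaximal (R := A) M
    rw [IsLocalRing.eq_maximalIdeal this]⟩
  have hmaxB : RingHom.ker ψ = maximalIdeal B := IsLocalRing.eq_maximalIdeal hψmax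
  refine ⟨B, inferInstance, hloc, inferInstance, ψ, Module.Flat.trans R A B, hkerψ ▸ hmaxB, hsurj,
    hmaxB, fun r => ?_⟩
  have h1 : algebraMap R B r = Ideal.Quotient.mk I (MvPolynomial.C (algebraMap R A r)) := rfl
  rw [h1, ← hcompat r]
  exact MvPolynomial.aeval_C _ _

/-- flatness criterion through a dense flat submodule -/
theorem flat_of_dense {A B B₀ : Type u} [CommRing A] [IsNoetherianRing A] [IsLocalRing A]
    [CommRing B] [IsNoetherianRing B] [IsLocalRing B] [Algebra A B] [IsLocalHom (algebraMap A B)]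
    [AddCommGroup B₀] [Module A B₀] [Module.Flat A B₀] (φ : B₀ →ₗ[A] B)
    (h₁ : ∀ (k : ℕ) (b : B), ∃ b₀, b - φ b₀ ∈ (maximalIdeal A ^ k • ⊤ : Submodule A B))
    (h₂ : ∀ (k : ℕ) (b₀ : B₀), φ b₀ ∈ (maximalIdeal A ^ k • ⊤ : Submodule A B) →
      b₀ ∈ (maximalIdeal A ^ k • ⊤ : Submodule A B₀)) :
    Module.Flat A B := by
  rw [Module.Flat.iff_lift_lsmul_comp_subtype_injective]
  intro a _
  let m := maximalIdeal A
  let mB := m.map (algebraMap A B)
  have hmB : mB ≠ ⊤ := ne_top_of_le_ne_top (maximalIdeal.isMaximal B).ne_top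
    (Ideal.map_le_iff_le_comap.2 fun x hx => map_nonunit (algebraMap A B) x hx)
  let ι : (B ⊗[A] a) →ₗ[B] (B ⊗[A] A) :=
    TensorProduct.AlgebraTensorModule.map LinearMap.id (a : Submodule A A).subtype
  suffices key : Function.Injective ι by
    have e : TensorProduct.lift ((LinearMap.lsmul A B).comp (a : Submodule A A).subtype) =
        ((TensorProduct.rid A B).toLinearMap ∘ₗ ι.restrictScalars A) ∘ₗ
          (TensorProduct.comm A a B).toLinearMap := by
      apply TensorProduct.ext'
      intro j b; simp [ι]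
    rw [e]
    exact ((TensorProduct.rid A B).injective.comp key).comp (TensorProduct.comm A a B).injective
  rw [← LinearMap.ker_eq_bot, eq_bot_iff]
  intro z hz
  rw [← Ideal.iInf_pow_smul_eq_bot_of_isLocalRing (M := B ⊗[A] a) mB hmB, Submodule.mem_iInf]
  intro n
  obtain ⟨k₀, hk₀⟩ := m.exists_pow_inf_eq_pow_smul (M := A) (a : Submodule A A)
  set k := n + k₀ with hk
  let S : Submodule A (B ⊗[A] a) := (mB ^ n • ⊤ : Submodule B (B ⊗[A] a)).restrictScalars A
  have hsmul : ∀ c ∈ m ^ n, ∀ w : B ⊗[A] a, c • w ∈ S := fun c hc w => by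
    have hc' : algebraMap A B c ∈ mB ^ n := by
      show algebraMap A B c ∈ (m.map (algebraMap A B)) ^ n
      exact Ideal.map_pow (algebraMap A B) m n ▸ Ideal.mem_map_of_mem _ hc
    rw [← algebraMap_smul B c w, Submodule.restrictScalars_mem]
    exact Submodule.smul_mem_smul (I := mB ^ n) (N := (⊤ : Submodule B (B ⊗[A] a))) hc'
      Submodule.mem_top
  have hb : ∀ b ∈ (m ^ k • ⊤ : Submodule A B), ∀ x : a, b ⊗ₜ[A] x ∈ S := fun b hb x => by
    refine Submodule.smul_induction_on hb (fun c hc w _ => ?_) (fun w w' hw hw' => ?_)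
    · rw [← TensorProduct.smul_tmul']
      exact hsmul c (Ideal.pow_le_pow_right (by omega) hc) _
    · rw [TensorProduct.add_tmul]; exact S.add_mem hw hw'
  let μ₀ : B₀ ⊗[A] a →ₗ[A] B₀ :=
    (TensorProduct.rid A B₀).toLinearMap ∘ₗ (a : Submodule A A).subtype.lTensor B₀
  let μ : B ⊗[A] a →ₗ[A] B := (TensorProduct.rid A B).toLinearMap ∘ₗ ι.restrictScalars A
  -- approximate `z` from `B₀`
  obtain ⟨y, hy, hyμ⟩ : ∃ y : B₀ ⊗[A] a,
      z - φ.rTensor a y ∈ S ∧ μ (z - φ.rTensor a y) ∈ (m ^ k • ⊤ : Submodule A B) := by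
    clear hz
    induction z using TensorProduct.induction_on with
    | zero => exact ⟨0, by simp, by simp⟩
    | tmul b x =>
      obtain ⟨b₀, hb₀⟩ := h₁ k b
      refine ⟨b₀ ⊗ₜ x, ?_, ?_⟩ <;> rw [LinearMap.rTensor_tmul, ← TensorProduct.sub_tmul]
      · exact hb _ hb₀ x
      · have : μ ((b - φ b₀) ⊗ₜ[A] x) = (x : A) • (b - φ b₀) := by simp [μ, ι]
        rw [this]
        exact Submodule.smul_mem _ _ hb₀
    | add z z' hz hz' =>
      obtain ⟨y, hy, hyμ⟩ := hz; obtain ⟨y', hy', hyμ'⟩ := hz'
      refine ⟨y + y', ?_, ?_⟩ <;> rw [map_add, add_sub_add_comm]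
      · exact S.add_mem hy hy'
      · rw [map_add]; exact Submodule.add_mem _ hyμ hyμ'
  suffices φ.rTensor a y ∈ S by
    have := S.add_mem hy this
    rwa [sub_add_cancel] at this
  have hcomm : ∀ w, φ (μ₀ w) = μ (φ.rTensor a w) := fun w => by
    induction w using TensorProduct.induction_on with
    | zero => simp
    | tmul b x => simp [μ₀, μ, ι]
    | add w w' h h' => simp only [map_add, h, h']
  have hyk : μ₀ y ∈ (m ^ k • ⊤ : Submodule A B₀) := by
    refine h₂ k _ ?_
    have hz0 : μ z = 0 := by simp [μ, LinearMap.mem_ker.1 hz]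
    rw [map_sub, hz0, zero_sub] at hyμ
    rw [hcomm]
    exact neg_mem_iff.1 hyμ
  let q : a →ₗ[A] A ⧸ m ^ k := (m ^ k).mkQ ∘ₗ (a : Submodule A A).subtype
  have hq : q.lTensor B₀ y = 0 := by
    rw [LinearMap.lTensor_comp, LinearMap.comp_apply]
    have : (a : Submodule A A).subtype.lTensor B₀ y = (TensorProduct.rid A B₀).symm (μ₀ y) := by
      simp [μ₀]
    rw [this]
    refine Submodule.smul_induction_on hyk (fun c hc w _ => ?_) (fun w w' hw hw' => ?_)
    · rw [TensorProduct.rid_symm_apply, TensorProduct.smul_tmul, LinearMap.lTensor_tmul,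
        Submodule.mkQ_apply, (Submodule.Quotient.mk_eq_zero _).2 (by simpa using hc),
        TensorProduct.tmul_zero]
    · rw [map_add, map_add, hw, hw', add_zero]
  have hex := Module.Flat.lTensor_exact B₀ (LinearMap.exact_subtype_ker_map q)
  obtain ⟨v, rfl⟩ := (hex y).1 hq
  clear hy hyμ hyk hq
  induction v using TensorProduct.induction_on with
  | zero => simp
  | add v v' hv hv' => rw [map_add, map_add]; exact S.add_mem hv hv'
  | tmul b x =>
    rw [LinearMap.lTensor_tmul, LinearMap.rTensor_tmul]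
    obtain ⟨x, hx⟩ := x
    have hxk : (x : A) ∈ m ^ k • (⊤ : Submodule A A) ⊓ a := by
      refine ⟨?_, x.2⟩
      rw [smul_eq_mul, Ideal.mul_top]
      exact (Submodule.Quotient.mk_eq_zero _).1 (LinearMap.mem_ker.1 hx)
    rw [hk₀ k (by omega), show k - k₀ = n by omega] at hxk
    have hxn : x ∈ (m ^ n • ⊤ : Submodule A a) := by
      have h' : (x : A) ∈ (m ^ n • ⊤ : Submodule A a).map (a : Submodule A A).subtype := by
        rw [Submodule.map_smul'', Submodule.map_top, Submodule.range_subtype]
        exact Submodule.smul_mono le_rfl inf_le_right hxk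
      obtain ⟨x', hx', he⟩ := h'
      rwa [← Subtype.ext he]
    show φ b ⊗ₜ[A] x ∈ S
    refine Submodule.smul_induction_on hxn (fun c hc w _ => ?_) (fun w w' hw hw' => ?_)
    · rw [TensorProduct.tmul_smul]; exact hsmul c hc _
    · rw [TensorProduct.tmul_add]; exact S.add_mem hw hw'

end Groth.Agent.ResidueExt.Construction
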