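import Mathlib.Algebra.MvPolynomial.Equiv
import Mathlib.Algebra.MvPolynomial.Variables
import Mathlib.Algebra.Polynomial.Lifts
import Mathlib.RingTheory.Polynomial.Basic
import Mathlib.RingTheory.Flat.Tensor
import Mathlib.RingTheory.IntegralClosure.IsIntegralClosure.Basic
import Mathlib.RingTheory.LocalRing.MaximalIdeal.Basic
import Mathlib.LinearAlgebra.TensorProduct.RightExactness
import Mathlib.Logic.Equiv.Option

/-! Quotients of a polynomial ring by a triangular system of monic relations. -/

namespace Groth.Agent.ResidueExt.Triangular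

universe u

open TensorProduct

/-- division by a monic polynomial -/
theorem inf_le_mul_of_monic {R : Type*} [CommRing R] {f : Polynomial R} (hf : f.Monic)
    (b J : Ideal R)
    (h : b.map Polynomial.C ⊓ J.map Polynomial.C ≤ b.map Polynomial.C * J.map Polynomial.C) :
    b.map Polynomial.C ⊓ (J.map Polynomial.C ⊔ Ideal.span {f}) ≤
      b.map Polynomial.C * (J.map Polynomial.C ⊔ Ideal.span {f}) := by
  intro x hx
  have key : ∀ (I : Ideal R) (y : Polynomial R), y ∈ I.map Polynomial.C →
      y %ₘ f ∈ I.map Polynomial.C ∧ y /ₘ f ∈ I.map Polynomial.C := by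
    intro I y hy
    have hk : RingHom.ker (Polynomial.mapRingHom (Ideal.Quotient.mk I)) = I.map Polynomial.C := by
      rw [Polynomial.ker_mapRingHom, Ideal.mk_ker]
    rw [← hk, RingHom.mem_ker, Polynomial.coe_mapRingHom] at hy
    constructor <;> rw [← hk, RingHom.mem_ker, Polynomial.coe_mapRingHom]
    · rw [Polynomial.map_modByMonic _ hf, hy, Polynomial.zero_modByMonic]
    · rw [Polynomial.map_divByMonic _ hf, hy, Polynomial.zero_divByMonic]
  obtain ⟨hxb, hxJ⟩ := hx
  obtain ⟨hr, hq⟩ := key b x hxb
  obtain ⟨j, hj, w, hw, hjw⟩ := Submodule.mem_sup.1 hxJ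
  obtain ⟨G, rfl⟩ := Ideal.mem_span_singleton'.1 hw
  have hrJ : x %ₘ f ∈ J.map Polynomial.C := by
    rw [← hjw, Polynomial.add_modByMonic, Polynomial.mul_self_modByMonic hf, add_zero]
    exact (key J j hj).1
  have hlhs : x = x %ₘ f + f * (x /ₘ f) := (Polynomial.modByMonic_add_div x f).symm
  rw [hlhs]
  refine add_mem (Ideal.mul_mono le_rfl le_sup_left (h ⟨hr, hrJ⟩)) ?_
  rw [mul_comm f]
  exact Ideal.mul_mem_mul hq (Ideal.mem_sup_right (Ideal.mem_span_singleton_self f))

variable (A : Type u) [CommRing A] {ι : Type u} [LinearOrder ι]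

/-- inclusion of the variables below `s` -/
noncomputable def incl (s : ι) : MvPolynomial {t // t < s} A →ₐ[A] MvPolynomial ι A :=
  MvPolynomial.rename Subtype.val

def optVal (s : ι) : Option {t // t < s} → ι := fun o => o.elim s Subtype.val

/-- polynomials in the variable `s` over the variables below -/
noncomputable def Phi (s : ι) : Polynomial (MvPolynomial {t // t < s} A) →ₐ[A] MvPolynomial ι A :=
  (MvPolynomial.rename (optVal s)).comp (MvPolynomial.optionEquivLeft A {t // t < s}).symm.toAlgHom

variable {A}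

theorem optVal_injective (s : ι) : Function.Injective (optVal s) := by
  rintro (_ | a) (_ | b) h
  · rfl
  · exact absurd h (ne_of_gt b.2)
  · exact absurd h (ne_of_lt a.2)
  · exact congrArg some (Subtype.ext h)

theorem Phi_C (s : ι) (q : MvPolynomial {t // t < s} A) :
    Phi A s (Polynomial.C q) = incl A s q := by
  have : (Phi A s).comp (Polynomial.CAlgHom : _ →ₐ[A] _) = incl A s := by
    apply MvPolynomial.algHom_ext
    intro i
    simp [Phi, incl, optVal, MvPolynomial.optionEquivLeft_symm_C_X]
  exact AlgHom.congr_fun this q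

theorem Phi_X (s : ι) : Phi A s Polynomial.X = MvPolynomial.X s := by
  simp [Phi, optVal, MvPolynomial.optionEquivLeft_symm_X]

theorem Phi_eq_eval₂ (s : ι) (h : Polynomial (MvPolynomial {t // t < s} A)) :
    Phi A s h = Polynomial.eval₂ (incl A s : MvPolynomial {t // t < s} A →+* MvPolynomial ι A)
      (MvPolynomial.X s) h := by
  induction h using Polynomial.induction_on' with
  | add p q hp hq => rw [map_add, hp, hq, Polynomial.eval₂_add]
  | monomial n q =>
    rw [← Polynomial.C_mul_X_pow_eq_monomial, map_mul, map_pow, Phi_C, Phi_X, Polynomial.eval₂_mul,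
      Polynomial.eval₂_C, Polynomial.eval₂_pow, Polynomial.eval₂_X]
    rfl

theorem exists_Phi_eq (x : MvPolynomial ι A) (t : ι) (ht : ∀ u ∈ x.vars, u ≤ t) :
    ∃ h, Phi A t h = x := by
  obtain ⟨q, hq⟩ := MvPolynomial.exists_rename_eq_of_vars_subset_range x (optVal t)
    (optVal_injective t) (by
      intro u hu
      rcases eq_or_lt_of_le (ht u hu) with h | h
      · exact ⟨none, h.symm⟩
      · exact ⟨some ⟨u, h⟩, rfl⟩)
  exact ⟨MvPolynomial.optionEquivLeft A _ q, by simp [Phi, hq]⟩

theorem incl_eq_Phi_or_C (s : ι) (q : MvPolynomial {t // t < s} A) :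
    (∃ a, incl A s q = MvPolynomial.C a) ∨ ∃ t < s, ∃ h, Phi A t h = incl A s q := by
  classical
  by_cases hne : (incl A s q).vars.Nonempty
  · right
    refine ⟨(incl A s q).vars.max' hne, ?_, exists_Phi_eq _ _ fun u hu => Finset.le_max' _ u hu⟩
    have := MvPolynomial.vars_rename (R := A) (Subtype.val : {t // t < s} → ι) q
      (Finset.max'_mem _ hne)
    obtain ⟨u, _, hu⟩ := Finset.mem_image.1 this
    rw [← hu]; exact u.2
  · left
    rw [Finset.not_nonempty_iff_eq_empty] at hne
    exact ⟨_, MvPolynomial.vars_eq_empty_iff_eq_C.1 hne⟩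

variable (A) in
/-- isolate the variable `s` -/
noncomputable def isolate (s : ι) :
    MvPolynomial ι A ≃ₐ[A] Polynomial (MvPolynomial {t // t ≠ s} A) :=
  (MvPolynomial.renameEquiv A (Equiv.optionSubtypeNe s).symm).trans
    (MvPolynomial.optionEquivLeft A _)

theorem isolate_X_self (s : ι) : isolate A s (MvPolynomial.X s) = Polynomial.X := by
  simp [isolate, MvPolynomial.optionEquivLeft_X_none]

theorem isolate_X_ne (s : ι) {t : ι} (h : t ≠ s) :
    isolate A s (MvPolynomial.X t) = Polynomial.C (MvPolynomial.X ⟨t, h⟩) := by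
  simp [isolate, MvPolynomial.optionEquivLeft_X_some, Equiv.optionSubtypeNe_symm_of_ne h]

theorem isolate_rename (s : ι) {κ : Type u} (v : κ → ι) (hv : ∀ k, v k ≠ s)
    (q : MvPolynomial κ A) :
    isolate A s (MvPolynomial.rename v q) =
      Polynomial.C (MvPolynomial.rename (fun k => (⟨v k, hv k⟩ : {t // t ≠ s})) q) := by
  have : (isolate A s).toAlgHom.comp (MvPolynomial.rename v) =
      (Polynomial.CAlgHom : _ →ₐ[A] _).comp
        (MvPolynomial.rename (fun k => (⟨v k, hv k⟩ : {t // t ≠ s}))) := by
    apply MvPolynomial.algHom_ext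
    intro i
    simp [isolate_X_ne s (hv i)]
  exact AlgHom.congr_fun this q

theorem isolate_Phi_self (s : ι) (g : Polynomial (MvPolynomial {t // t < s} A)) :
    isolate A s (Phi A s g) =
      g.map (MvPolynomial.rename (fun t : {t // t < s} => (⟨t.1, ne_of_lt t.2⟩ : {t // t ≠ s})) :
        MvPolynomial {t // t < s} A →ₐ[A] MvPolynomial {t // t ≠ s} A) := by
  induction g using Polynomial.induction_on' with
  | add p q hp hq => simp [hp, hq]
  | monomial n q =>
    rw [← Polynomial.C_mul_X_pow_eq_monomial, map_mul, map_pow, Phi_C, Phi_X, map_mul, map_pow,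
      isolate_X_self, incl, isolate_rename s _ fun k => ne_of_lt k.2]
    simp

variable (g : ∀ s : ι, Polynomial (MvPolynomial {t // t < s} A)) (hg : ∀ s, (g s).Monic)

/-- the ideal of the relations in `F` -/
noncomputable def rel (F : Set ι) : Ideal (MvPolynomial ι A) :=
  Ideal.span ((fun s => Phi A s (g s)) '' F)

include hg in
theorem inf_rel_le_mul (F : Finset ι) (a : Ideal A) :
    a.map MvPolynomial.C ⊓ rel g (F : Set ι) ≤ a.map MvPolynomial.C * rel g (F : Set ι) := by
  classical
  induction F using Finset.induction_on_max with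
  | empty => simp [rel]
  | insert s F hlt ih =>
    set E : MvPolynomial ι A →+* _ := (isolate A s).toRingEquiv.toRingHom with hE
    have hEbij : Function.Bijective E := (isolate A s).bijective
    let R := MvPolynomial {t // t ≠ s} A
    let b : Ideal R := a.map MvPolynomial.C
    have hb : (a.map MvPolynomial.C).map E = b.map Polynomial.C := by
      rw [Ideal.map_map, Ideal.map_map]
      congr 1
      ext x n m
      simp [hE, isolate, MvPolynomial.optionEquivLeft_C]
    let c : ι → R := fun t => if h : t < s then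
      MvPolynomial.rename (fun o : Option {u // u < t} =>
        (⟨optVal t o, ne_of_lt (lt_of_le_of_lt (by
          cases o with
          | none => exact le_rfl
          | some u => exact u.2.le) h)⟩ : {u // u ≠ s}))
        ((MvPolynomial.optionEquivLeft A _).symm (g t))
      else 0
    let J : Ideal R := Ideal.span (c '' F)
    have hJ : (rel g (F : Set ι)).map E = J.map Polynomial.C := by
      rw [rel, Ideal.map_span, Ideal.map_span, ← Set.image_comp, ← Set.image_comp]
      congr 1
      refine Set.image_congr fun t ht => ?_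
      show isolate A s (Phi A t (g t)) = Polynomial.C (c t)
      have hts := hlt t ht
      simp only [c, dif_pos hts, Phi, AlgHom.comp_apply]
      exact isolate_rename s _ _ _
    set f := E (Phi A s (g s)) with hfdef
    have hf : f.Monic := by
      show (isolate A s (Phi A s (g s))).Monic
      rw [isolate_Phi_self]
      exact (hg s).map _
    have hsplit : (rel g ((insert s F : Finset ι) : Set ι)).map E =
        J.map Polynomial.C ⊔ Ideal.span {f} := by
      rw [rel, Finset.coe_insert, Set.image_insert_eq, Ideal.span_insert, Ideal.map_sup,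
        Ideal.map_span E {_}, Set.image_singleton, sup_comm, ← hJ, rel]
    have ih' : b.map Polynomial.C ⊓ J.map Polynomial.C ≤ b.map Polynomial.C * J.map Polynomial.C := by
      rw [← hb, ← hJ, ← Ideal.map_mul]
      intro y hy
      obtain ⟨x, rfl⟩ := hEbij.2 y
      have hinj : ∀ I : Ideal (MvPolynomial ι A), E x ∈ I.map E → x ∈ I := fun I hI => by
        obtain ⟨x', hx', e⟩ := (Ideal.mem_map_iff_of_surjective E hEbij.2).1 hI
        rwa [← hEbij.1 e]
      exact Ideal.mem_map_of_mem _ (ih ⟨hinj _ hy.1, hinj _ hy.2⟩)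
    have main := inf_le_mul_of_monic hf b J ih'
    rw [← hb, ← hsplit, ← Ideal.map_mul] at main
    intro x hx
    have := main ⟨Ideal.mem_map_of_mem E hx.1, Ideal.mem_map_of_mem E hx.2⟩
    obtain ⟨x', hx', e⟩ := (Ideal.mem_map_iff_of_surjective E hEbij.2).1 this
    rwa [← hEbij.1 e]

include hg in
theorem flat_quotient : Module.Flat A (MvPolynomial ι A ⧸ rel g Set.univ) := by
  classical
  set P := MvPolynomial ι A
  set I := rel g Set.univ with hI
  rw [Module.Flat.iff_lift_lsmul_comp_subtype_injective]
  intro a _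
  rw [← LinearMap.ker_eq_bot, eq_bot_iff]
  intro z hz
  let π : P →ₗ[A] P ⧸ I := (Ideal.Quotient.mkₐ A I).toLinearMap
  have hπ : Function.Surjective π := Ideal.Quotient.mk_surjective
  obtain ⟨y, rfl⟩ := LinearMap.lTensor_surjective a hπ z
  let μ : (a : Submodule A A) ⊗[A] P →ₗ[A] P :=
    TensorProduct.lift ((LinearMap.lsmul A P).comp a.subtype)
  have hμinj : Function.Injective μ := by
    have h := Module.Flat.rTensor_preserves_injective_linearMap (M := P)
      (a : Submodule A A).subtype a.injective_subtype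
    have e : μ = (TensorProduct.lid A P).toLinearMap ∘ₗ (a : Submodule A A).subtype.rTensor P := by
      apply TensorProduct.ext'
      intro x p
      simp [μ]
    rw [e]
    exact (TensorProduct.lid A P).injective.comp h
  have hμπ : ∀ w, TensorProduct.lift ((LinearMap.lsmul A (P ⧸ I)).comp a.subtype) (π.lTensor a w)
      = π (μ w) := fun w => by
    induction w using TensorProduct.induction_on with
    | zero => simp
    | tmul x p => simp [μ, π]
    | add x y hx hy => simp only [map_add, hx, hy]
  rw [LinearMap.mem_ker, hμπ] at hz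
  have hyI : μ y ∈ I := Ideal.Quotient.eq_zero_iff_mem.1 hz
  have hya : μ y ∈ a.map (MvPolynomial.C : A →+* P) := by
    clear hz hyI
    induction y using TensorProduct.induction_on with
    | zero => simp
    | tmul x p =>
      have : μ (x ⊗ₜ[A] p) = MvPolynomial.C (x : A) * p := by simp [μ, MvPolynomial.C_mul', P]
      rw [this]
      exact Ideal.mul_mem_right _ _ (Ideal.mem_map_of_mem _ x.2)
    | add x y hx hy => rw [map_add]; exact add_mem hx hy
  obtain ⟨S, hS, hSI⟩ := Submodule.mem_span_finite_of_mem_span hyI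
  obtain ⟨F, hF⟩ : ∃ F : Finset ι, (S : Set P) ⊆ (fun s => Phi A s (g s)) '' (F : Set ι) := by
    choose pre hpre using fun w : S => hS w.2
    exact ⟨S.attach.image pre, fun w hw =>
      ⟨pre ⟨w, hw⟩, Finset.mem_image.2 ⟨⟨w, hw⟩, Finset.mem_attach _ _, rfl⟩, (hpre ⟨w, hw⟩).2⟩⟩
  have hmul : μ y ∈ a.map MvPolynomial.C * I :=
    Ideal.mul_mono le_rfl (Ideal.span_mono (Set.image_mono (Set.subset_univ _)))
      (inf_rel_le_mul g hg F a ⟨hya, Ideal.span_mono hF hSI⟩)
  let ii : (I.restrictScalars A) →ₗ[A] P := (I.restrictScalars A).subtype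
  suffices ∀ w ∈ a.map (MvPolynomial.C : A →+* P) * I, ∃ v, μ (ii.lTensor a v) = w by
    obtain ⟨v, hv⟩ := this _ hmul
    rw [← hμinj hv, ← LinearMap.lTensor_comp_apply]
    have : π ∘ₗ ii = 0 := LinearMap.ext fun x => Ideal.Quotient.eq_zero_iff_mem.2 x.2
    rw [this, LinearMap.lTensor_zero]; rfl
  intro w hw
  refine Submodule.mul_induction_on hw (fun b hb i hi => ?_) (fun x y ⟨u, hu⟩ ⟨v, hv⟩ => ?_)
  · clear hw
    revert i
    rw [Ideal.map, ← Ideal.submodule_span_eq] at hb
    induction hb using Submodule.span_induction with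
    | mem x hx =>
      obtain ⟨x, hx, rfl⟩ := hx
      exact fun i hi => ⟨⟨x, hx⟩ ⊗ₜ[A] ⟨i, hi⟩, by simp [μ, ii, MvPolynomial.C_mul', P]⟩
    | zero => exact fun i _ => ⟨0, by simp⟩
    | add x y _ _ hx hy =>
      intro i hi
      obtain ⟨u, hu⟩ := hx i hi
      obtain ⟨v, hv⟩ := hy i hi
      exact ⟨u + v, by rw [map_add, map_add, hu, hv, add_mul]⟩
    | smul r x _ hx =>
      intro i hi
      obtain ⟨u, hu⟩ := hx (r * i) (I.mul_mem_left r hi)
      exact ⟨u, by rw [hu, smul_eq_mul]; ring⟩
  · exact ⟨u + v, by rw [map_add, map_add, hu, hv]⟩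

section eval

variable {K : Type u} [Field K] [Algebra A K] [IsLocalRing A] (v : ι → K)

theorem inv_mem_of_isIntegral (hker : RingHom.ker (algebraMap A K) = IsLocalRing.maximalIdeal A)
    (S : Subalgebra A K) {x : K} (hx : x ∈ S) (hint : IsIntegral A x) : x⁻¹ ∈ S := by
  classical
  by_cases h0 : x = 0
  · simp [h0]
  obtain ⟨p, hp, hpx⟩ := hint
  suffices ∀ (n : ℕ) (p : Polynomial A), p.natDegree = n → p.Monic →
      Polynomial.aeval x p = 0 → x⁻¹ ∈ S from this _ p rfl hp hpx
  intro n
  induction n using Nat.strong_induction_on with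
  | _ n ih =>
    intro p hn hp hpx
    have hn0 : n ≠ 0 := by
      rintro rfl
      rw [hp.natDegree_eq_zero.1 hn] at hpx
      simp at hpx
    have hdecomp := p.divX_mul_X_add
    rw [← hdecomp, map_add, map_mul, Polynomial.aeval_X, Polynomial.aeval_C] at hpx
    by_cases hc : algebraMap A K (p.coeff 0) = 0
    · rw [hc, add_zero, mul_eq_zero] at hpx
      have hdq : (p.divX).natDegree = n - 1 := by
        rw [Polynomial.natDegree_divX_eq_natDegree_tsub_one, hn]
      have hmon : (p.divX).Monic := by
        rw [Polynomial.Monic, Polynomial.leadingCoeff, hdq, Polynomial.coeff_divX]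
        rw [show n - 1 + 1 = p.natDegree by omega]
        exact hp
      exact ih (n - 1) (by omega) _ hdq hmon (hpx.resolve_right h0)
    · have hu : IsUnit (p.coeff 0) := by
        by_contra hnu
        exact hc (RingHom.mem_ker.1 (hker ▸ hnu))
      obtain ⟨u, hu⟩ := hu
      have hxinv : x⁻¹ = -(algebraMap A K ↑u⁻¹) * Polynomial.aeval x p.divX := by
        refine inv_eq_of_mul_eq_one_right ?_
        have h1 : algebraMap A K ↑u⁻¹ * algebraMap A K ↑u = 1 := by
          rw [← map_mul, Units.inv_mul, map_one]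
        rw [← hu] at hpx
        linear_combination (-(algebraMap A K ↑u⁻¹)) * hpx + h1
      rw [hxinv]
      exact mul_mem (neg_mem (S.algebraMap_mem _)) (Algebra.adjoin_le (Set.singleton_subset_iff.2 hx)
        (Polynomial.aeval_mem_adjoin_singleton A x))

/-- evaluation of the variables below `s` -/
noncomputable def evBelow (s : ι) : MvPolynomial {t // t < s} A →ₐ[A] K :=
  (MvPolynomial.aeval v).comp (incl A s)

theorem exists_minimal_monic (hker : RingHom.ker (algebraMap A K) = IsLocalRing.maximalIdeal A)
    (hint : ∀ x : K, IsIntegral A x) (s : ι) :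
    ∃ gs : Polynomial (MvPolynomial {t // t < s} A), gs.Monic ∧
      MvPolynomial.aeval v (Phi A s gs) = 0 ∧
      ∀ h : Polynomial (MvPolynomial {t // t < s} A), h.degree < gs.degree →
        MvPolynomial.aeval v (Phi A s h) = 0 → ∀ j, evBelow v s (h.coeff j) = 0 := by
  classical
  set φ : MvPolynomial {t // t < s} A →+* K := (evBelow v s).toRingHom with hφ
  have hval : ∀ h : Polynomial (MvPolynomial {t // t < s} A),
      MvPolynomial.aeval v (Phi A s h) = (h.map φ).eval (v s) := by
    intro h
    rw [Phi_eq_eval₂, Polynomial.eval_map]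
    show (MvPolynomial.aeval v : MvPolynomial ι A →ₐ[A] K).toRingHom _ = _
    rw [Polynomial.hom_eval₂]
    simp [hφ, evBelow]
    rfl
  have hex : ∃ n, ∃ gs : Polynomial (MvPolynomial {t // t < s} A),
      gs.natDegree = n ∧ gs.Monic ∧ MvPolynomial.aeval v (Phi A s gs) = 0 := by
    obtain ⟨p, hp, hpx⟩ := hint (v s)
    refine ⟨_, p.map (algebraMap A _), rfl, hp.map _, ?_⟩
    rw [hval, Polynomial.map_map, Polynomial.eval_map]
    rw [show φ.comp (algebraMap A _) = algebraMap A K from (evBelow v s).comp_algebraMap]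
    exact hpx
  obtain ⟨gs, hgn, hgm, hg0⟩ := Nat.find_spec hex
  refine ⟨gs, hgm, hg0, fun h hdeg hh => ?_⟩
  suffices hbar : h.map φ = 0 from fun j => by
    have := congrArg (fun q => Polynomial.coeff q j) hbar
    simpa [hφ] using this
  by_contra hne
  set hb := h.map φ with hhb
  let c := hb.leadingCoeff
  have hc : c⁻¹ ∈ (evBelow v s).range := inv_mem_of_isIntegral hker _
    ⟨h.coeff hb.natDegree, (Polynomial.coeff_map φ hb.natDegree).symm⟩ (hint c)
  have hlift : Polynomial.C c⁻¹ * hb ∈ Polynomial.lifts φ := by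
    obtain ⟨w, hw⟩ := hc
    exact mul_mem ⟨Polynomial.C w, by simpa [hφ] using hw⟩ ⟨h, rfl⟩
  have hmon : (Polynomial.C c⁻¹ * hb).Monic := by
    rw [mul_comm]
    exact Polynomial.monic_mul_leadingCoeff_inv hne
  obtain ⟨q, hq, hqdeg, hqm⟩ := Polynomial.lifts_and_degree_eq_and_monic hlift hmon
  have hqz : MvPolynomial.aeval v (Phi A s q) = 0 := by
    rw [hval, hq, Polynomial.eval_mul, hhb, ← hval, hh, mul_zero]
  have hlt : q.natDegree < gs.natDegree := by
    refine Polynomial.natDegree_lt_natDegree hqm.ne_zero ?_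
    calc q.degree = (Polynomial.C c⁻¹ * hb).degree := hqdeg
      _ = hb.degree := by
        rw [Polynomial.degree_C_mul (inv_ne_zero (Polynomial.leadingCoeff_ne_zero.2 hne))]
      _ ≤ h.degree := Polynomial.degree_map_le
      _ < gs.degree := hdeg
  exact Nat.find_min hex (hgn ▸ hlt) ⟨q, rfl, hqm, hqz⟩

variable [WellFoundedLT ι]

include hg in
theorem ker_aeval_eq (hker : RingHom.ker (algebraMap A K) = IsLocalRing.maximalIdeal A)
    (hzero : ∀ s, MvPolynomial.aeval v (Phi A s (g s)) = 0)
    (hmin : ∀ s, ∀ h : Polynomial (MvPolynomial {t // t < s} A), h.degree < (g s).degree →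
        MvPolynomial.aeval v (Phi A s h) = 0 → ∀ j, evBelow v s (h.coeff j) = 0) :
    RingHom.ker (MvPolynomial.aeval v : MvPolynomial ι A →ₐ[A] K) =
      rel g Set.univ ⊔ (IsLocalRing.maximalIdeal A).map MvPolynomial.C := by
  set J := rel g Set.univ ⊔ (IsLocalRing.maximalIdeal A).map (MvPolynomial.C (σ := ι)) with hJ
  refine le_antisymm ?_ (sup_le ?_ ?_)
  · have hC : ∀ a : A, MvPolynomial.aeval v (MvPolynomial.C a) = 0 →
        MvPolynomial.C a ∈ J := fun a ha => by
      rw [MvPolynomial.aeval_C] at ha
      exact Ideal.mem_sup_right (Ideal.mem_map_of_mem _ (hker ▸ RingHom.mem_ker.2 ha))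
    have main : ∀ s : ι, ∀ h, MvPolynomial.aeval v (Phi A s h) = 0 → Phi A s h ∈ J := by
      intro s
      induction s using WellFoundedLT.induction with
      | _ s ih =>
        intro h hh
        have hgJ : Phi A s (g s) ∈ J :=
          Ideal.mem_sup_left (Ideal.subset_span ⟨s, trivial, rfl⟩)
        rw [← Polynomial.modByMonic_add_div h (g s), map_add, map_mul] at hh ⊢
        rw [map_add, map_mul, hzero, zero_mul, add_zero] at hh
        refine add_mem ?_ (Ideal.mul_mem_right _ _ hgJ)
        have hcoef := hmin s _ (Polynomial.degree_modByMonic_lt _ (hg s)) hh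
        rw [Phi_eq_eval₂, Polynomial.eval₂_eq_sum_range]
        refine sum_mem fun j _ => Ideal.mul_mem_right _ _ ?_
        rcases incl_eq_Phi_or_C s ((h %ₘ g s).coeff j) with ⟨a, ha⟩ | ⟨t, hts, q, hq⟩
        · show incl A s _ ∈ J
          rw [ha]; exact hC a (by rw [← ha]; exact hcoef j)
        · show incl A s _ ∈ J
          rw [← hq]; exact ih t hts q (by rw [hq]; exact hcoef j)
    intro x hx
    classical
    by_cases hne : x.vars.Nonempty
    · obtain ⟨q, hq⟩ := exists_Phi_eq x (x.vars.max' hne) fun u hu => Finset.le_max' _ u hu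
      exact hq ▸ main (x.vars.max' hne) q (by rw [hq]; exact hx)
    · rw [Finset.not_nonempty_iff_eq_empty] at hne
      rw [MvPolynomial.vars_eq_empty_iff_eq_C.1 hne] at hx ⊢
      exact hC _ hx
  · rw [rel, Ideal.span_le]
    rintro _ ⟨s, _, rfl⟩
    exact hzero s
  · rw [Ideal.map_le_iff_le_comap]
    intro a ha
    rw [Ideal.mem_comap, RingHom.mem_ker]
    show MvPolynomial.aeval v (MvPolynomial.C a) = 0
    rw [MvPolynomial.aeval_C]
    exact RingHom.mem_ker.1 (hker ▸ ha)

omit [IsLocalRing A] in
include hg in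
theorem isIntegral_quotient : Algebra.IsIntegral A (MvPolynomial ι A ⧸ rel g Set.univ) := by
  set B := MvPolynomial ι A ⧸ rel g Set.univ
  let π : MvPolynomial ι A →ₐ[A] B := Ideal.Quotient.mkₐ A _
  have hX : ∀ s, IsIntegral A (π (MvPolynomial.X s)) := by
    intro s
    induction s using WellFoundedLT.induction with
    | _ s ih =>
      let S := integralClosure A B
      have hc : ∀ q, π (incl A s q) ∈ S := fun q => by
        induction q using MvPolynomial.induction_on with
        | C a => rw [incl, MvPolynomial.rename_C]; exact π.map_algebraMap a ▸ S.algebraMap_mem a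
        | add p q hp hq => rw [map_add, map_add]; exact add_mem hp hq
        | mul_X p i hp =>
          rw [map_mul, map_mul]
          refine mul_mem hp ?_
          rw [incl, MvPolynomial.rename_X]
          exact ih i.1 i.2
      let cc : MvPolynomial {t // t < s} A →+* S :=
        (((π.comp (incl A s))).toRingHom).codRestrict S.toSubring fun q => hc q
      have : IsIntegral S (π (MvPolynomial.X s)) := by
        refine ⟨(g s).map cc, (hg s).map _, ?_⟩
        rw [Polynomial.eval₂_map]
        have : π (Phi A s (g s)) = 0 :=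
          Ideal.Quotient.eq_zero_iff_mem.2 (Ideal.subset_span ⟨s, trivial, rfl⟩)
        rw [← this, Phi_eq_eval₂]
        show _ = (π : MvPolynomial ι A →+* B) _
        rw [Polynomial.hom_eval₂]
        rfl
      exact isIntegral_trans (π (MvPolynomial.X s)) this
  refine ⟨fun x => ?_⟩
  obtain ⟨x, rfl⟩ := Ideal.Quotient.mkₐ_surjective A _ x
  induction x using MvPolynomial.induction_on with
  | C a => exact π.map_algebraMap a ▸ isIntegral_algebraMap
  | add p q hp hq => rw [map_add]; exact hp.add hq
  | mul_X p i hp => rw [map_mul]; exact hp.mul (hX i)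

end eval

end Groth.Agent.ResidueExt.Triangular
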